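import Mathlib
import Cfsg.Agent.Lib.Helper5.Grp.D8Recog

/-!
# The centralizer of an involution of the alternating group of degree six is dihedral of order 8
-/

set_option autoImplicit false

namespace Cfsg.Agent.Lib.Helper5.D8Cor

set_option maxRecDepth 100000 in
theorem a6_cent_card : ∀ g : alternatingGroup (Fin 6), g ^ 2 = 1 → g ≠ 1 →
    (Finset.univ.filter (fun h : alternatingGroup (Fin 6) => h * g = g * h)).card = 8 := by
  decide +kernel

set_option maxRecDepth 100000 in
set_option synthInstance.maxHeartbeats 400000 in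
set_option synthInstance.maxSize 1000 in
theorem a6_cent_nc : ∀ g : alternatingGroup (Fin 6), g ^ 2 = 1 → g ≠ 1 →
    ∃ h : alternatingGroup (Fin 6), h * g = g * h ∧
      ∃ k : alternatingGroup (Fin 6), k * g = g * k ∧ k * k = 1 ∧ h * k ≠ k * h := by
  decide +kernel

theorem a6_cent_dihedral (g : alternatingGroup (Fin 6)) (hg : orderOf g = 2) :
    Nonempty (DihedralGroup 4 ≃*
      ↥(Subgroup.centralizer ({g} : Set ↥(alternatingGroup (Fin 6))))) := by
  classical
  have hg2 : g ^ 2 = 1 := by rw [← hg]; exact pow_orderOf_eq_one g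
  have hg1 : g ≠ 1 := by
    rintro rfl
    rw [orderOf_one] at hg
    omega
  obtain ⟨h, hh, k, hk, hkk, hne⟩ := a6_cent_nc g hg2 hg1
  have hmem : ∀ x : alternatingGroup (Fin 6),
      x ∈ Subgroup.centralizer ({g} : Set ↥(alternatingGroup (Fin 6))) ↔ x * g = g * x := by
    intro x
    exact Subgroup.mem_centralizer_singleton_iff
  have hcard : Nat.card ↥(Subgroup.centralizer ({g} : Set ↥(alternatingGroup (Fin 6)))) = 8 := by
    rw [← a6_cent_card g hg2 hg1, ← Fintype.card_subtype, ← Nat.card_eq_fintype_card]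
    exact Nat.card_congr (Equiv.subtypeEquivRight hmem)
  have hhC : h ∈ Subgroup.centralizer ({g} : Set ↥(alternatingGroup (Fin 6))) := (hmem h).mpr hh
  have hkC : k ∈ Subgroup.centralizer ({g} : Set ↥(alternatingGroup (Fin 6))) := (hmem k).mpr hk
  refine Cfsg.Agent.Lib.Helper5.D8R.dihedral_of_card_eight hcard ⟨k, hkC⟩ ⟨h, hhC⟩ ?_ ?_
  · exact Subtype.ext hkk
  · intro hc
    apply hne
    exact congrArg Subtype.val hc

end Cfsg.Agent.Lib.Helper5.D8Cor
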