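import Mathlib

/-!
# Subgroups of index two in symmetric groups and in small 2-groups
-/

set_option autoImplicit false

namespace Cfsg.Agent.Lib.Helper5.D8Cor

theorem exists_index_two_of_perm {G : Type*} [Group G] (n : ℕ) [Nontrivial (Fin n)]
    (f : G ≃* Equiv.Perm (Fin n)) : ∃ H : Subgroup G, H.index = 2 := by
  refine ⟨(alternatingGroup (Fin n)).comap f.toMonoidHom, ?_⟩
  rw [Subgroup.index_comap_of_surjective _ f.surjective]
  exact alternatingGroup.index_eq_two

theorem exists_index_two_of_two_group {Q : Type*} [Group Q] [Finite Q]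
    (hd : Nat.card Q ∣ 8) (h1 : Nat.card Q ≠ 1) : ∃ K : Subgroup Q, K.index = 2 := by
  have : Fact (Nat.Prime 2) := ⟨Nat.prime_two⟩
  have h8 : Nat.card Q ≤ 8 := Nat.le_of_dvd (by norm_num) hd
  have hpos : 0 < Nat.card Q := Nat.card_pos
  have hcases : Nat.card Q = 2 ∨ Nat.card Q = 4 ∨ Nat.card Q = 8 := by
    interval_cases h : Nat.card Q <;> simp_all
  rcases hcases with h | h | h
  · obtain ⟨K, hK⟩ := Sylow.exists_subgroup_card_pow_prime (G := Q) 2 (n := 0) (by simp)
    refine ⟨K, ?_⟩
    have := Subgroup.card_mul_index K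
    rw [hK, h] at this
    omega
  · obtain ⟨K, hK⟩ := Sylow.exists_subgroup_card_pow_prime (G := Q) 2 (n := 1) (by rw [h]; norm_num)
    refine ⟨K, ?_⟩
    have := Subgroup.card_mul_index K
    rw [hK, h] at this
    omega
  · obtain ⟨K, hK⟩ := Sylow.exists_subgroup_card_pow_prime (G := Q) 2 (n := 2) (by rw [h]; norm_num)
    refine ⟨K, ?_⟩
    have := Subgroup.card_mul_index K
    rw [hK, h] at this
    omega

end Cfsg.Agent.Lib.Helper5.D8Cor
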